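import Groth.Agent.CAlgUI.GeomNormal
import Groth.Agent.GeomField.Chart
import Groth.Prelude.Def_Pi1

/-!
# Normality of schemes over a field after extension of the base field
-/

set_option autoImplicit false
set_option linter.style.haveILetI false
set_option backward.isDefEq.respectTransparency.types false
set_option backward.isDefEq.respectTransparency false
set_option synthInstance.maxHeartbeats 400000

universe u

open CategoryTheory CategoryTheory.Limits AlgebraicGeometry
open TensorProduct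

namespace Groth.Agent.GeomNormal5

open Groth.Agent

/-- An integrally closed domain. -/
abbrev NL (R : Type u) [CommRing R] : Prop := IsDomain R ∧ IsIntegrallyClosed R

theorem nl_congr {R S : Type u} [CommRing R] [CommRing S] (e : R ≃+* S) : NL R ↔ NL S := by
  constructor
  · rintro ⟨_, _⟩; exact ⟨e.symm.toMulEquiv.isDomain, IsIntegrallyClosed.of_equiv e⟩
  · rintro ⟨_, _⟩; exact ⟨e.toMulEquiv.isDomain, IsIntegrallyClosed.of_equiv e.symm⟩

theorem isNormalRing_of_nl {R : Type u} [CommRing R] (h : NL R) : EGA4.IsNormalRing R := by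
  obtain ⟨_, _⟩ := h
  exact fun p _ => ⟨IsLocalization.isDomain_localization p.primeCompl_le_nonZeroDivisors,
    isIntegrallyClosed_of_isLocalization _ p.primeCompl p.primeCompl_le_nonZeroDivisors⟩

/-- Normality may be tested at the maximal ideals. -/
theorem isNormalRing_of_maximal {T : Type u} [CommRing T]
    (h : ∀ (m : Ideal T) [m.IsMaximal], NL (Localization.AtPrime m)) : EGA4.IsNormalRing T := by
  refine IntBC.isNormalRing_of_cover fun Q hQ => ?_
  obtain ⟨m, hm, hle⟩ := Ideal.exists_le_maximal Q hQ.ne_top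
  exact ⟨Localization.AtPrime m, inferInstance, inferInstance, m.primeCompl, inferInstance,
    Set.disjoint_left.2 fun x hx hxQ => hx (hle hxQ), isNormalRing_of_nl (h m)⟩

/-- Stalks of an affine scheme. -/
theorem nl_spec_iff {T : Type u} [CommRing T] (Q : Spec (CommRingCat.of T)) :
    NL ((Spec (CommRingCat.of T)).presheaf.stalk Q) ↔ NL (Localization.AtPrime (PrimeSpectrum.asIdeal (R := T) Q)) :=
  nl_congr (Spec.stalkIso (CommRingCat.of T) Q).commRingCatIsoToRingEquiv

/-- Stalks along an open immersion. -/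
theorem nl_openImmersion_iff {X Y : Scheme.{u}} (j : X ⟶ Y) [IsOpenImmersion j] (x : X) :
    NL (Y.presheaf.stalk (j x)) ↔ NL (X.presheaf.stalk x) :=
  nl_congr (asIso (j.stalkMap x)).commRingCatIsoToRingEquiv

theorem isNormalRing_of_openImmersion {T : Type u} [CommRing T] {Y : Scheme.{u}} (hY : Pi1.IsNormalScheme Y)
    (j : Spec (CommRingCat.of T) ⟶ Y) [IsOpenImmersion j] : EGA4.IsNormalRing T := fun p hp => by
  let Q : Spec (CommRingCat.of T) := (⟨p, hp⟩ : PrimeSpectrum T)
  exact (nl_spec_iff Q).1 ((nl_openImmersion_iff j Q).1 (hY (j Q)))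

theorem nl_of_isNormalRing {T : Type u} [CommRing T] {Y : Scheme.{u}}
    (h : EGA4.IsNormalRing T) (j : Spec (CommRingCat.of T) ⟶ Y) [IsOpenImmersion j] (Q : Spec (CommRingCat.of T)) :
    NL (Y.presheaf.stalk (j Q)) :=
  (nl_openImmersion_iff j Q).2 ((nl_spec_iff Q).2 (h _))

section Field

variable {k : Type u} [Field k] {X : Scheme.{u}} [X.Over (Spec (CommRingCat.of k))]

theorem isNormalRing_comm {R K : Type u} [CommRing R] [Algebra k R] [CommRing K] [Algebra k K]
    (h : EGA4.IsNormalRing (R ⊗[k] K)) : EGA4.IsNormalRing (K ⊗[k] R) :=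
  FlatLoc6.isNormalRing_of_ringEquiv (Algebra.TensorProduct.comm k R K).toRingEquiv h

theorem isNormalScheme_bc_of_charts (K : Type u) [Field K] [Algebra k K]
    (h : ∀ c : GeomField.Chart k X, EGA4.IsNormalRing (K ⊗[k] c.R)) :
    Pi1.IsNormalScheme (Curv2.bc k X K) := fun z => by
  obtain ⟨c, P, hP⟩ := GeomField.exists_chart (k := k) (Curv2.bcFst k X K z)
  obtain ⟨Q, rfl⟩ := c.exists_bcEmb_eq K P z hP.symm
  exact nl_of_isNormalRing (isNormalRing_comm (h c)) (c.bcEmb K) Q

theorem isNormalRing_chart (K : Type u) [Field K] [Algebra k K]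
    (h : Pi1.IsNormalScheme (Curv2.bc k X K)) (c : GeomField.Chart k X) :
    EGA4.IsNormalRing (K ⊗[k] c.R) :=
  isNormalRing_comm (isNormalRing_of_openImmersion h (c.bcEmb K))

/-- Normal after every finite purely inseparable extension implies normal after every extension. -/
theorem isNormalScheme_bc_of_insep
    (h : ∀ (k' : Type u) [Field k'] [Algebra k k'] [FiniteDimensional k k'] [IsPurelyInseparable k k'],
      Pi1.IsNormalScheme (Curv2.bc k X k'))
    (K : Type u) [Field K] [Algebra k K] : Pi1.IsNormalScheme (Curv2.bc k X K) :=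
  isNormalScheme_bc_of_charts K fun c => CAlgUI.GeomNormal.isNormalRing_tensor
    (fun k' _ _ hf hp => by
      haveI : FiniteDimensional k k' := hf
      haveI := hp
      exact isNormalRing_chart k' (h k') c) K

/-- Around one point: normality of `k' ⊗ O_x` from normality at the points over `x`. -/
theorem isNormalRing_tensor_stalk (c : GeomField.Chart k X) (P : Spec (CommRingCat.of c.R))
    (k' : Type u) [Field k'] [Algebra k k'] [Algebra.IsAlgebraic k k']
    (h : ∀ z : Curv2.bc k X k', Curv2.bcFst k X k' z = c.emb P → NL ((Curv2.bc k X k').presheaf.stalk z))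
    (O : Type u) [CommRing O] [Algebra c.R O] [Algebra k O] [IsScalarTower k c.R O]
    [IsLocalization.AtPrime O (PrimeSpectrum.asIdeal (R := c.R) P)] : EGA4.IsNormalRing (k' ⊗[k] O) := by
  haveI : IsLocalRing O := IsLocalization.AtPrime.isLocalRing O (PrimeSpectrum.asIdeal (R := c.R) P)
  suffices hh : EGA4.IsNormalRing (O ⊗[k] k') from isNormalRing_comm hh
  let g : c.R ⊗[k] k' →ₐ[c.R] O ⊗[k] k' :=
    Algebra.TensorProduct.map (Algebra.ofId c.R O) (AlgHom.id k k')
  letI : Algebra (c.R ⊗[k] k') (O ⊗[k] k') := g.toRingHom.toAlgebra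
  haveI : IsScalarTower c.R (c.R ⊗[k] k') (O ⊗[k] k') :=
    .of_algebraMap_eq <| by intro; simp [RingHom.algebraMap_toAlgebra, g]
  let M := Algebra.algebraMapSubmonoid (c.R ⊗[k] k') (PrimeSpectrum.asIdeal (R := c.R) P).primeCompl
  haveI : IsLocalization M (O ⊗[k] k') :=
    IsLocalization.tensorProduct_tensorProduct k k' (PrimeSpectrum.asIdeal (R := c.R) P).primeCompl O
      (RingHom.ext fun w => by simp [RingHom.algebraMap_toAlgebra, g])
  refine isNormalRing_of_maximal fun m hm => ?_
  let Q : Ideal (c.R ⊗[k] k') := m.comap (algebraMap _ (O ⊗[k] k'))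
  let Qp : Spec (CommRingCat.of (c.R ⊗[k] k')) := (⟨Q, inferInstance⟩ : PrimeSpectrum (c.R ⊗[k] k'))
  haveI : Algebra.IsIntegral O (O ⊗[k] k') := inferInstance
  have hmO : (m.comap (algebraMap O (O ⊗[k] k'))).IsMaximal := Ideal.isMaximal_comap_of_isIntegral_of_isMaximal m
  have hQP : Q.comap (algebraMap c.R (c.R ⊗[k] k')) = PrimeSpectrum.asIdeal (R := c.R) P := by
    rw [Ideal.comap_comap, ← IsScalarTower.algebraMap_eq, IsScalarTower.algebraMap_eq c.R O (O ⊗[k] k'),
      ← Ideal.comap_comap, IsLocalRing.eq_maximalIdeal hmO]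
    exact IsLocalization.AtPrime.comap_maximalIdeal O (PrimeSpectrum.asIdeal (R := c.R) P)
  have hz := h (c.bcEmb k' Qp) ((c.bcEmb_fst_eq_iff k' P Qp).2 hQP)
  have h2 : NL (Localization.AtPrime Q) := (nl_spec_iff Qp).1 ((nl_openImmersion_iff (c.bcEmb k') Qp).1 hz)
  haveI : IsLocalization.AtPrime (Localization.AtPrime m) Q :=
    IsLocalization.isLocalization_isLocalization_atPrime_isLocalization M (Localization.AtPrime m) m
  exact (nl_congr (IsLocalization.algEquiv Q.primeCompl (Localization.AtPrime Q) (Localization.AtPrime m)).toRingEquiv).1 h2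

/-- Normality at the points over `x` from normality of `K ⊗ O_x`. -/
theorem nl_of_isNormalRing_tensor_stalk (c : GeomField.Chart k X) (P : Spec (CommRingCat.of c.R))
    (K : Type u) [Field K] [Algebra k K]
    (O : Type u) [CommRing O] [Algebra c.R O] [Algebra k O] [IsScalarTower k c.R O]
    [IsLocalization.AtPrime O (PrimeSpectrum.asIdeal (R := c.R) P)] (h : EGA4.IsNormalRing (K ⊗[k] O))
    (z : Curv2.bc k X K) (hz : Curv2.bcFst k X K z = c.emb P) : NL ((Curv2.bc k X K).presheaf.stalk z) := by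
  obtain ⟨Qp, rfl⟩ := c.exists_bcEmb_eq K P z hz
  have hQP := (c.bcEmb_fst_eq_iff K P Qp).1 hz
  let Q : Ideal (c.R ⊗[k] K) := PrimeSpectrum.asIdeal (R := c.R ⊗[k] K) Qp
  haveI : Q.IsPrime := PrimeSpectrum.isPrime (R := c.R ⊗[k] K) Qp
  let g : c.R ⊗[k] K →ₐ[c.R] O ⊗[k] K :=
    Algebra.TensorProduct.map (Algebra.ofId c.R O) (AlgHom.id k K)
  letI : Algebra (c.R ⊗[k] K) (O ⊗[k] K) := g.toRingHom.toAlgebra
  haveI : IsScalarTower c.R (c.R ⊗[k] K) (O ⊗[k] K) :=
    .of_algebraMap_eq <| by intro; simp [RingHom.algebraMap_toAlgebra, g]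
  let M := Algebra.algebraMapSubmonoid (c.R ⊗[k] K) (PrimeSpectrum.asIdeal (R := c.R) P).primeCompl
  haveI : IsLocalization M (O ⊗[k] K) :=
    IsLocalization.tensorProduct_tensorProduct k K (PrimeSpectrum.asIdeal (R := c.R) P).primeCompl O
      (RingHom.ext fun w => by simp [RingHom.algebraMap_toAlgebra, g])
  have hd : Disjoint (M : Set (c.R ⊗[k] K)) (Q : Set (c.R ⊗[k] K)) := by
    rw [Set.disjoint_left]
    rintro _ ⟨r, hr, rfl⟩ hrQ
    exact hr (hQP ▸ (show r ∈ Q.comap (algebraMap c.R (c.R ⊗[k] K)) from hrQ))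
  let Q' := Q.map (algebraMap (c.R ⊗[k] K) (O ⊗[k] K))
  haveI : Q'.IsPrime := IsLocalization.isPrime_of_isPrime_disjoint M _ Q inferInstance hd
  have hQ' : Q'.comap (algebraMap (c.R ⊗[k] K) (O ⊗[k] K)) = Q :=
    IsLocalization.comap_map_of_isPrime_disjoint M _ inferInstance hd
  have h' : EGA4.IsNormalRing (O ⊗[k] K) := isNormalRing_comm h
  haveI : IsLocalization.AtPrime (Localization.AtPrime Q') (Q'.comap (algebraMap (c.R ⊗[k] K) (O ⊗[k] K))) :=
    IsLocalization.isLocalization_isLocalization_atPrime_isLocalization M (Localization.AtPrime Q') Q'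
  have h2 : NL (Localization.AtPrime (Q'.comap (algebraMap (c.R ⊗[k] K) (O ⊗[k] K)))) := 
    (nl_congr (IsLocalization.algEquiv (Q'.comap (algebraMap (c.R ⊗[k] K) (O ⊗[k] K))).primeCompl
      (Localization.AtPrime (Q'.comap (algebraMap (c.R ⊗[k] K) (O ⊗[k] K)))) (Localization.AtPrime Q')).toRingEquiv).2 (h' Q')
  refine (nl_openImmersion_iff (c.bcEmb K) Qp).2 ((nl_spec_iff Qp).2 ?_)
  have key : ∀ (J : Ideal (c.R ⊗[k] K)) [J.IsPrime], J = Q → NL (Localization.AtPrime J) → NL (Localization.AtPrime Q) :=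
    fun J _ e hJ => by subst e; exact hJ
  exact key _ hQ' h2

end Field

end Groth.Agent.GeomNormal5
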